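import Cfsg.Agent.Lib.ThreeTrans.Exclude.OrthSpace
import Mathlib.Combinatorics.SimpleGraph.Connectivity.Connected

/-!
# A graph cannot be locally the orthogonality graph of `O^±(2n, 2)`, `n ≥ 4`

Three pairwise orthogonal common neighbours `x, u, v` of two non-adjacent neighbours `d, c` of `b`
and their sum `w` give in the space of `d` the equations `x = u + v + w` and `b = u + v + w`.
-/

set_option autoImplicit false

namespace CfsgLib.ThreeTrans.Exclude

open LinearMap (BilinForm)

variable {α V : Type*} [AddCommGroup V] [Module (ZMod 2) V]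

theorem eq_of_add_eq_zero {a b : V} (h : a + b = 0) : a = b := by
  rwa [← ZModModule.sub_eq_add, sub_eq_zero] at h

/-- Every neighbourhood is the orthogonality graph on the non-singular vectors of `q`. -/
structure LocalOrth (Γ : SimpleGraph α) (q : QuadraticForm (ZMod 2) V) (φ : α → α → V) : Prop where
  ns : ∀ z t : α, Γ.Adj z t → q (φ z t) = 1
  inj : ∀ z t t' : α, Γ.Adj z t → Γ.Adj z t' → φ z t = φ z t' → t = t'
  surj : ∀ (z : α) (w : V), q w = 1 → ∃ t, Γ.Adj z t ∧ φ z t = w
  perp : ∀ z t t' : α, Γ.Adj z t → Γ.Adj z t' → t ≠ t' →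
    (Γ.Adj t t' ↔ q.polarBilin (φ z t) (φ z t') = 0)

variable {Γ : SimpleGraph α} {q : QuadraticForm (ZMod 2) V} {φ : α → α → V}

theorem LocalOrth.perp_iff (L : LocalOrth Γ q φ) {z t t' : α} (h : Γ.Adj z t) (h' : Γ.Adj z t') :
    q.polarBilin (φ z t) (φ z t') = 0 ↔ t = t' ∨ Γ.Adj t t' := by
  by_cases e : t = t'
  · subst e
    simp only [true_or, iff_true]
    exact polar_self _
  · simp only [e, false_or]
    exact (L.perp z t t' h h' e).symm

variable [FiniteDimensional (ZMod 2) V]

/-- Transfer between two neighbours: the span criterion. -/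
theorem LocalOrth.mem_span (L : LocalOrth Γ q φ) (hnd : q.polarBilin.Nondegenerate) {z y r : α}
    {S : Set α} (hy : Γ.Adj z y) (hr : r ∈ S) (hS : ∀ s ∈ S, Γ.Adj z s)
    (hclique : ∀ s ∈ S, ∀ s' ∈ S, s = s' ∨ Γ.Adj s s')
    (h : ∀ t : α, Γ.Adj z t → (∀ s ∈ S, t = s ∨ Γ.Adj t s) → t = y ∨ Γ.Adj t y) :
    φ z y ∈ Submodule.span (ZMod 2) (φ z '' S) := by
  refine mem_span_of_dual hnd (S := φ z '' S) (r := φ z r) ⟨r, hr, rfl⟩ (L.ns z r (hS r hr)) ?_ fun w hw hperp => ?_
  · rintro _ ⟨s, hs, rfl⟩ _ ⟨s', hs', rfl⟩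
    exact (L.perp_iff (hS s hs) (hS s' hs')).2 (hclique s hs s' hs')
  · obtain ⟨t, ht, rfl⟩ := L.surj z w hw
    exact (L.perp_iff ht hy).2
      (h t ht fun s hs => (L.perp_iff ht (hS s hs)).1 (hperp _ ⟨s, hs, rfl⟩))

/-- Three further neighbours of `d` and `c`, pairwise adjacent. -/
structure Quad (Γ : SimpleGraph α) (b d c x u v w : α) : Prop where
  bd : Γ.Adj b d
  bx : Γ.Adj b x
  bu : Γ.Adj b u
  bv : Γ.Adj b v
  bw : Γ.Adj b w
  dx : Γ.Adj d x
  du : Γ.Adj d u
  dv : Γ.Adj d v
  dw : Γ.Adj d w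
  bc : Γ.Adj b c
  cu : Γ.Adj c u
  cv : Γ.Adj c v
  cw : Γ.Adj c w
  cx : Γ.Adj c x
  xu : Γ.Adj x u
  xv : Γ.Adj x v
  xw : Γ.Adj x w
  uv : Γ.Adj u v
  uw : Γ.Adj u w
  vw : Γ.Adj v w
  ncd : ¬ Γ.Adj c d
  hcd : c ≠ d

namespace Quad

variable {b d c x u v w : α}

theorem swap (h : Quad Γ b d c x u v w) : Quad Γ x d c b u v w :=
  ⟨h.dx.symm, h.bx.symm, h.xu, h.xv, h.xw, h.bd.symm, h.du, h.dv, h.dw, h.cx.symm, h.cu, h.cv, h.cw,
    h.bc.symm, h.bu, h.bv, h.bw, h.uv, h.uw, h.vw, h.ncd, h.hcd⟩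

/-- The variant with two of the last three exchanged. -/
theorem perm₁ (h : Quad Γ b d c x u v w) : Quad Γ b d c x u w v :=
  ⟨h.bd, h.bx, h.bu, h.bw, h.bv, h.dx, h.du, h.dw, h.dv, h.bc, h.cu, h.cw, h.cv, h.cx, h.xu, h.xw,
    h.xv, h.uw, h.uv, h.vw.symm, h.ncd, h.hcd⟩

theorem perm₂ (h : Quad Γ b d c x u v w) : Quad Γ b d c x v w u :=
  ⟨h.bd, h.bx, h.bv, h.bw, h.bu, h.dx, h.dv, h.dw, h.du, h.bc, h.cv, h.cw, h.cu, h.cx, h.xv, h.xw,
    h.xu, h.vw, h.uv.symm, h.uw.symm, h.ncd, h.hcd⟩

/-- `x = b + u + v` is impossible in the space of `d`. -/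
theorem not_eq_left (h : Quad Γ b d c x u v w) (L : LocalOrth Γ q φ)
    (hnd : q.polarBilin.Nondegenerate) : φ d x ≠ φ d b + φ d u + φ d v := by
  intro e
  have hmem := L.mem_span hnd (z := b) (y := v) (r := d) (S := {d, x, u}) h.bv (by simp)
    (by rintro s (rfl | rfl | rfl); exacts [h.bd, h.bx, h.bu])
    (by
      rintro s (rfl | rfl | rfl) s' (rfl | rfl | rfl)
      all_goals first
        | exact Or.inl rfl
        | exact Or.inr h.dx | exact Or.inr h.du | exact Or.inr h.xu
        | exact Or.inr h.dx.symm | exact Or.inr h.du.symm | exact Or.inr h.xu.symm)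
    (fun t ht hts => by
      rcases hts d (by simp) with rfl | htd
      · exact Or.inr h.dv
      have hb := (L.perp_iff htd.symm h.bd.symm).2 (Or.inr ht.symm)
      have hx := (L.perp_iff htd.symm h.dx).2 (hts x (by simp))
      have hu := (L.perp_iff htd.symm h.du).2 (hts u (by simp))
      refine (L.perp_iff htd.symm h.dv).1 ?_
      rwa [e, map_add, map_add, hb, hu, zero_add, zero_add] at hx)
  -- `c` is orthogonal to `x`, `u`, `v` but not to `d`
  have hC : ∀ s : α, Γ.Adj b s → Γ.Adj c s → q.polarBilin (φ b c) (φ b s) = 0 := fun s hs hcs =>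
    (L.perp_iff h.bc hs).2 (Or.inr hcs)
  have hCd : q.polarBilin (φ b c) (φ b d) ≠ 0 := fun e' => by
    rcases (L.perp_iff h.bc h.bd).1 e' with e' | e'
    exacts [h.hcd e', h.ncd e']
  simp only [Set.image_insert_eq, Set.image_singleton, Submodule.mem_span_insert,
    Submodule.mem_span_singleton] at hmem
  obtain ⟨a, _, ⟨a', _, ⟨a'', rfl⟩, rfl⟩, hv⟩ := hmem
  have h0 := hC v h.bv h.cv
  rw [hv, map_add, map_add, map_smul, map_smul, map_smul, hC x h.bx h.cx, hC u h.bu h.cu,
    smul_zero, smul_zero, add_zero, add_zero, smul_eq_mul, mul_eq_zero] at h0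
  have ha : a = 0 := h0.resolve_right hCd
  rw [ha, zero_smul, zero_add] at hv
  have hxu : q.polarBilin (φ b x) (φ b u) = 0 := (L.perp_iff h.bx h.bu).2 (Or.inr h.xu)
  have hns := L.ns b v h.bv
  rcases zmod_two_cases a' with rfl | rfl <;> rcases zmod_two_cases a'' with rfl | rfl <;>
    simp only [zero_smul, one_smul, zero_add, add_zero] at hv
  · rw [hv, QuadraticMap.map_zero] at hns
    exact absurd hns (by decide)
  · exact h.uv.ne (L.inj b u v h.bu h.bv hv.symm)
  · exact h.xv.ne (L.inj b x v h.bx h.bv hv.symm)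
  · rw [hv, map_add_of_perp hxu, L.ns b x h.bx, L.ns b u h.bu] at hns
    exact absurd hns (by decide)

/-- In the space of `d` also `x = u + v + w`. -/
theorem eq_sum (h : Quad Γ b d c x u v w) (L : LocalOrth Γ q φ) (hnd : q.polarBilin.Nondegenerate)
    (hsum : φ b x = φ b u + φ b v + φ b w) : φ d x = φ d u + φ d v + φ d w := by
  have hmem := L.mem_span hnd (z := d) (y := x) (r := b) (S := {b, u, v, w}) h.dx (by simp)
    (by rintro s (rfl | rfl | rfl | rfl); exacts [h.bd.symm, h.du, h.dv, h.dw])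
    (by
      rintro s (rfl | rfl | rfl | rfl) s' (rfl | rfl | rfl | rfl)
      all_goals first
        | exact Or.inl rfl
        | exact Or.inr h.bu | exact Or.inr h.bv | exact Or.inr h.bw | exact Or.inr h.uv
        | exact Or.inr h.uw | exact Or.inr h.vw
        | exact Or.inr h.bu.symm | exact Or.inr h.bv.symm | exact Or.inr h.bw.symm
        | exact Or.inr h.uv.symm | exact Or.inr h.uw.symm | exact Or.inr h.vw.symm)
    (fun t _ hts => by
      rcases hts b (by simp) with rfl | htb
      · exact Or.inr h.bx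
      refine (L.perp_iff htb.symm h.bx).1 ?_
      rw [hsum, map_add, map_add, (L.perp_iff htb.symm h.bu).2 (hts u (by simp)),
        (L.perp_iff htb.symm h.bv).2 (hts v (by simp)), (L.perp_iff htb.symm h.bw).2 (hts w (by simp)),
        add_zero, add_zero])
  simp only [Set.image_insert_eq, Set.image_singleton] at hmem
  have P := fun s t (hs : Γ.Adj d s) (ht : Γ.Adj d t) (hst : Γ.Adj s t) =>
    (L.perp_iff hs ht).2 (Or.inr hst)
  rcases mem_span_four
      ⟨L.ns d b h.bd.symm, L.ns d u h.du, L.ns d v h.dv, L.ns d w h.dw⟩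
      (P b u h.bd.symm h.du h.bu) (P b v h.bd.symm h.dv h.bv) (P b w h.bd.symm h.dw h.bw)
      (P u v h.du h.dv h.uv) (P u w h.du h.dw h.uw) (P v w h.dv h.dw h.vw)
      (L.ns d x h.dx) hmem with e | e | e | e | e | e | e | e
  · exact absurd (L.inj d x b h.dx h.bd.symm e) h.bx.ne'
  · exact absurd (L.inj d x u h.dx h.du e) h.xu.ne
  · exact absurd (L.inj d x v h.dx h.dv e) h.xv.ne
  · exact absurd (L.inj d x w h.dx h.dw e) h.xw.ne
  · exact absurd e (h.not_eq_left L hnd)
  · exact absurd e (h.perm₁.not_eq_left L hnd)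
  · exact absurd e (h.perm₂.not_eq_left L hnd)
  · exact e

/-- In the space of `x` also `b = u + v + w`. -/
theorem eq_sum_swap (h : Quad Γ b d c x u v w) (L : LocalOrth Γ q φ)
    (hnd : q.polarBilin.Nondegenerate) (hsum : φ b x = φ b u + φ b v + φ b w) :
    φ x b = φ x u + φ x v + φ x w := by
  have P := fun s t (hs : Γ.Adj x s) (ht : Γ.Adj x t) (hst : s = t ∨ Γ.Adj s t) =>
    (L.perp_iff hs ht).2 hst
  have huv := P u v h.xu h.xv (Or.inr h.uv)
  have huw := P u w h.xu h.xw (Or.inr h.uw)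
  have hvw := P v w h.xv h.xw (Or.inr h.vw)
  have hq : q (φ x u + φ x v + φ x w) = 1 := by
    rw [map_add_of_perp (by rw [map_add, LinearMap.add_apply, huw, hvw, add_zero]),
      map_add_of_perp huv, L.ns x u h.xu, L.ns x v h.xv, L.ns x w h.xw]
    decide
  obtain ⟨s, hxs, hs⟩ := L.surj x _ hq
  have hperp : ∀ t, Γ.Adj x t → (u = t ∨ Γ.Adj u t) → (v = t ∨ Γ.Adj v t) → (w = t ∨ Γ.Adj w t) →
      s = t ∨ Γ.Adj s t := fun t ht hu hv hw => (L.perp_iff hxs ht).1 (by
    rw [hs, map_add, map_add, LinearMap.add_apply, LinearMap.add_apply, P u t h.xu ht hu,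
      P v t h.xv ht hv, P w t h.xw ht hw, add_zero, add_zero])
  rcases hperp b h.bx.symm (Or.inr h.bu.symm) (Or.inr h.bv.symm) (Or.inr h.bw.symm) with rfl | hsb
  · exact hs
  exfalso
  have hmem := L.mem_span hnd (z := b) (y := s) (r := x) (S := {x, u, v}) hsb.symm (by simp)
    (by rintro s' (rfl | rfl | rfl); exacts [h.bx, h.bu, h.bv])
    (by
      rintro s' (rfl | rfl | rfl) s'' (rfl | rfl | rfl)
      all_goals first
        | exact Or.inl rfl
        | exact Or.inr h.xu | exact Or.inr h.xv | exact Or.inr h.uv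
        | exact Or.inr h.xu.symm | exact Or.inr h.xv.symm | exact Or.inr h.uv.symm)
    (fun t ht hts => by
      rcases hts x (by simp) with rfl | htx
      · exact Or.inr hxs
      have hu := (L.perp_iff ht h.bu).2 (hts u (by simp))
      have hv := (L.perp_iff ht h.bv).2 (hts v (by simp))
      have hw : q.polarBilin (φ b t) (φ b w) = 0 := by
        have hx := (L.perp_iff ht h.bx).2 (hts x (by simp))
        rwa [hsum, map_add, map_add, hu, hv, zero_add, zero_add] at hx
      have key := hperp t htx.symm ((hts u (by simp)).imp Eq.symm SimpleGraph.Adj.symm)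
        ((hts v (by simp)).imp Eq.symm SimpleGraph.Adj.symm)
        (((L.perp_iff ht h.bw).1 hw).imp Eq.symm SimpleGraph.Adj.symm)
      exact key.imp Eq.symm SimpleGraph.Adj.symm)
  have Pb := fun s t (hs : Γ.Adj b s) (ht : Γ.Adj b t) (hst : Γ.Adj s t) =>
    (L.perp_iff hs ht).2 (Or.inr hst)
  have huv' := Pb u v h.bu h.bv h.uv
  have huw' := Pb u w h.bu h.bw h.uw
  have hvw' := Pb v w h.bv h.bw h.vw
  simp only [Set.image_insert_eq, Set.image_singleton] at hmem
  have hmem' : φ b s ∈ Submodule.span (ZMod 2) ({φ b x, φ b u, φ b v, φ b w} : Set V) :=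
    Submodule.span_mono (by simp [Set.insert_subset_iff]) hmem
  simp only [Submodule.mem_span_insert, Submodule.mem_span_singleton] at hmem
  obtain ⟨a, _, ⟨a', _, ⟨a'', rfl⟩, rfl⟩, e⟩ := hmem
  have hne : ∀ t, Γ.Adj b t → φ b s = φ b t → s = t := fun t ht => L.inj b s t hsb.symm ht
  have hns := L.ns b s hsb.symm
  have hxu := Pb x u h.bx h.bu h.xu
  have hxv := Pb x v h.bx h.bv h.xv
  have hinj : ∀ t, Γ.Adj x t → s = t → φ x u + φ x v + φ x w = φ x t := fun t _ e' => by rw [← e', hs]
  have two : ∀ a b : V, a + b + b = a := fun a b => by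
    rw [add_assoc, ← two_smul (ZMod 2), show (2 : ZMod 2) = 0 from by decide, zero_smul, add_zero]
  rcases zmod_two_cases a with rfl | rfl <;> rcases zmod_two_cases a' with rfl | rfl <;>
    rcases zmod_two_cases a'' with rfl | rfl <;>
    simp only [zero_smul, one_smul, zero_add, add_zero] at e
  · rw [e, QuadraticMap.map_zero] at hns; exact absurd hns (by decide)
  · refine h.uw.ne (L.inj x u w h.xu h.xw (eq_of_add_eq_zero ?_))
    have e' := hinj v h.xv (hne v h.bv e)
    rwa [add_right_comm, add_eq_right] at e'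
  · refine h.vw.ne (L.inj x v w h.xv h.xw (eq_of_add_eq_zero ?_))
    have e' := hinj u h.xu (hne u h.bu e)
    rwa [add_assoc, add_eq_left] at e'
  · rw [e, map_add_of_perp huv', L.ns b u h.bu, L.ns b v h.bv] at hns; exact absurd hns (by decide)
  · exact hxs.ne' (hne x h.bx e)
  · rw [e, map_add_of_perp hxv, L.ns b x h.bx, L.ns b v h.bv] at hns; exact absurd hns (by decide)
  · rw [e, map_add_of_perp hxu, L.ns b x h.bx, L.ns b u h.bu] at hns; exact absurd hns (by decide)
  · have e2 : φ b s = φ b w := by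
      rw [e, hsum, ← add_assoc, show φ b u + φ b v + φ b w + φ b u + φ b v =
        φ b w + φ b u + φ b u + φ b v + φ b v by abel, two, two]
    have e' := hinj w h.xw (hne w h.bw e2)
    refine h.uv.ne (L.inj x u v h.xu h.xv (eq_of_add_eq_zero ?_))
    rwa [add_eq_right] at e'

theorem false_of_sum (h : Quad Γ b d c x u v w) (L : LocalOrth Γ q φ)
    (hnd : q.polarBilin.Nondegenerate) (hsum : φ b x = φ b u + φ b v + φ b w) : False :=
  h.bx.ne (L.inj d b x h.bd.symm h.dx
    ((h.swap.eq_sum L hnd (h.eq_sum_swap L hnd hsum)).trans (h.eq_sum L hnd hsum).symm))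

end Quad

/-- Inside a subspace of dimension at least three with a non-singular radical vector there is a
non-singular vector outside a plane. -/
theorem exists_ns_notMem {U T : Submodule (ZMod 2) V} {r : V} (hr : r ∈ U) (hq : q r = 1)
    (hperp : ∀ u ∈ U, q.polarBilin r u = 0)
    (hlt : Module.finrank (ZMod 2) T < Module.finrank (ZMod 2) U) :
    ∃ y ∈ U, q y = 1 ∧ y ∉ T := by
  by_contra hno
  push Not at hno
  have : U ≤ T := (le_span_ns hr hq hperp).trans (Submodule.span_le.2 fun y hy => hno y hy.1 hy.2)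
  exact absurd (Submodule.finrank_mono this) (by omega)

/-- No two vertices at distance two. -/
theorem LocalOrth.adj_of_common (L : LocalOrth Γ q φ) (hnd : q.polarBilin.Nondegenerate)
    (hdim : 8 ≤ Module.finrank (ZMod 2) V) {b c d : α} (hbc : Γ.Adj b c) (hbd : Γ.Adj b d)
    (hcd : c ≠ d) : Γ.Adj c d := by
  by_contra hn
  set C := φ b c
  set D := φ b d
  have hCD : q.polarBilin C D = 1 := (zmod_two_cases _).resolve_left fun e => by
    rcases (L.perp_iff hbc hbd).1 e with e | e
    exacts [hcd e, hn e]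
  set O : Submodule (ZMod 2) V → Submodule (ZMod 2) V := BilinForm.orthogonal q.polarBilin with hO
  have hdimO : ∀ W : Submodule (ZMod 2) V,
      Module.finrank (ZMod 2) (O W) = Module.finrank (ZMod 2) V - Module.finrank (ZMod 2) W :=
    fun W => BilinForm.finrank_orthogonal hnd W
  set W := O (Submodule.span (ZMod 2) {C, D}) with hW
  have hW2 : Module.finrank (ZMod 2) (Submodule.span (ZMod 2) ({C, D} : Set V)) ≤ 2 := by
    classical
    have h := finrank_span_finset_le_card (R := ZMod 2) ({C, D} : Finset V)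
    rw [Finset.coe_insert, Finset.coe_singleton] at h
    exact h.trans Finset.card_le_two
  have memW : ∀ y, y ∈ W ↔ q.polarBilin C y = 0 ∧ q.polarBilin D y = 0 := by
    intro y
    rw [hW, hO, BilinForm.mem_orthogonal_iff]
    refine ⟨fun h => ⟨h C (Submodule.subset_span (by simp)), h D (Submodule.subset_span (by simp))⟩,
      fun h n hn => ?_⟩
    exact (Submodule.span_le (p := LinearMap.ker (q.polarBilin.flip y))).2
      (by rintro _ (rfl | rfl); exacts [h.1, h.2]) hn
  -- a first vector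
  obtain ⟨X, hXW, hX⟩ : ∃ X ∈ W, q X = 1 := by
    by_contra hno
    push Not at hno
    have hq0 : ∀ y ∈ W, q y = 0 := fun y hy => (zmod_two_cases _).resolve_right (hno y hy)
    have hle : W ≤ O W := fun y hy => by
      rw [hO, BilinForm.mem_orthogonal_iff]
      intro n hn
      have h := QuadraticMap.map_add (⇑q) n y
      rw [hq0 _ (W.add_mem hn hy), hq0 n hn, hq0 y hy, zero_add, zero_add] at h
      simpa using h.symm
    have h1 := Submodule.finrank_mono hle
    have hWd := hdimO (Submodule.span (ZMod 2) {C, D})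
    rw [← hW] at hWd
    have := hdimO W
    omega
  set W1 := W ⊓ O (Submodule.span (ZMod 2) {X}) with hW1
  have hsub : ∀ A B : Submodule (ZMod 2) V, Module.finrank (ZMod 2) A + Module.finrank (ZMod 2) B ≤
      Module.finrank (ZMod 2) V + Module.finrank (ZMod 2) ↥(A ⊓ B) := fun A B => by
    rw [← Submodule.finrank_sup_add_finrank_inf_eq A B]
    exact Nat.add_le_add_right (Submodule.finrank_le _) _
  have h1 : Module.finrank (ZMod 2) (Submodule.span (ZMod 2) ({X} : Set V)) ≤ 1 := by
    have h := finrank_span_finset_le_card (R := ZMod 2) ({X} : Finset V)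
    rwa [Finset.coe_singleton, Finset.card_singleton] at h
  have memO : ∀ z y : V, y ∈ O (Submodule.span (ZMod 2) {z}) ↔ q.polarBilin z y = 0 := by
    intro z y
    rw [hO, BilinForm.mem_orthogonal_iff]
    refine ⟨fun h => h z (Submodule.subset_span rfl), fun h n hn => ?_⟩
    exact (Submodule.span_le (p := LinearMap.ker (q.polarBilin.flip y))).2
      (by rintro _ rfl; exact h) hn
  have hXW1 : X ∈ W1 := ⟨hXW, (memO X X).2 (polar_self X)⟩
  have hperp1 : ∀ y ∈ W1, q.polarBilin X y = 0 := fun y hy => (memO X y).1 hy.2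
  have hd1 : 5 ≤ Module.finrank (ZMod 2) W1 := by
    have := hsub W (O (Submodule.span (ZMod 2) {X}))
    rw [hW1]
    have hWd := hdimO (Submodule.span (ZMod 2) {C, D})
    rw [← hW] at hWd
    have := hdimO (Submodule.span (ZMod 2) {X})
    omega
  obtain ⟨U, hU, hqU, hUT⟩ := exists_ns_notMem (T := Submodule.span (ZMod 2) {X}) hXW1 hX hperp1
    (by omega)
  set W2 := W1 ⊓ O (Submodule.span (ZMod 2) {U})
  have hUdim : Module.finrank (ZMod 2) (Submodule.span (ZMod 2) ({U} : Set V)) ≤ 1 := by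
    have h := finrank_span_finset_le_card (R := ZMod 2) ({U} : Finset V)
    rwa [Finset.coe_singleton, Finset.card_singleton] at h
  have hd2 : 4 ≤ Module.finrank (ZMod 2) W2 := by
    have := hsub W1 (O (Submodule.span (ZMod 2) {U}))
    rw [hdimO] at this
    show 4 ≤ Module.finrank (ZMod 2) ↥(W1 ⊓ O (Submodule.span (ZMod 2) {U}))
    omega
  have hXU : Module.finrank (ZMod 2) (Submodule.span (ZMod 2) ({X, U} : Set V)) ≤ 2 := by
    classical
    have h := finrank_span_finset_le_card (R := ZMod 2) ({X, U} : Finset V)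
    rw [Finset.coe_insert, Finset.coe_singleton] at h
    exact h.trans Finset.card_le_two
  obtain ⟨Y, hY, hqY, hYT⟩ := exists_ns_notMem (T := Submodule.span (ZMod 2) {X, U})
    (show X ∈ W2 from ⟨hXW1, (memO U X).2 (by rw [polar_comm]; exact hperp1 U hU)⟩) hX
    (fun y hy => hperp1 y hy.1) (by omega)
  have eXU := hperp1 U hU
  have eXY := hperp1 Y hY.1
  have eUY : q.polarBilin U Y = 0 := (memO U Y).1 hY.2
  have nUX : U ≠ X := fun e => hUT (e ▸ Submodule.subset_span rfl)
  have nYX : Y ≠ X := fun e => hYT (e ▸ Submodule.subset_span (by simp))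
  have nYU : Y ≠ U := fun e => hYT (e ▸ Submodule.subset_span (by simp))
  set Z := X + U + Y with hZ
  have hqZ : q Z = 1 := by
    rw [hZ, map_add_of_perp (by rw [map_add, LinearMap.add_apply, eXY, eUY, add_zero]),
      map_add_of_perp eXU, hX, hqU, hqY]
    decide
  have two : ∀ a b : V, a + b + b = a := fun a b => by
    rw [add_assoc, ← two_smul (ZMod 2), show (2 : ZMod 2) = 0 from by decide, zero_smul, add_zero]
  have hXeq : X = U + Y + Z := by
    rw [hZ, show U + Y + (X + U + Y) = X + U + U + Y + Y by abel, two, two]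
  have nZX : Z ≠ X := fun e => by
    rw [hZ, add_assoc, add_eq_left] at e
    exact nYU (by rw [← two Y U, add_comm Y U, e, zero_add])
  have nZU : Z ≠ U := fun e => by
    rw [hZ, add_right_comm, add_eq_right] at e
    exact nYX (by rw [← two Y X, add_comm Y X, e, zero_add])
  have nZY : Z ≠ Y := fun e => by
    rw [hZ, add_eq_right] at e
    exact nUX (by rw [← two U X, add_comm U X, e, zero_add])
  have hZW : Z ∈ W := W.add_mem (W.add_mem hXW hU.1) hY.1.1
  obtain ⟨x, hx, ex⟩ := L.surj b X hX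
  obtain ⟨u, hu, eu⟩ := L.surj b U hqU
  obtain ⟨v, hv, ev⟩ := L.surj b Y hqY
  obtain ⟨w, hw, ew⟩ := L.surj b Z hqZ
  have adjW : ∀ t, Γ.Adj b t → φ b t ∈ W → Γ.Adj c t ∧ Γ.Adj d t := by
    intro t ht hmem
    obtain ⟨h1, h2⟩ := (memW _).1 hmem
    refine ⟨((L.perp_iff hbc ht).1 h1).resolve_left fun e => ?_,
      ((L.perp_iff hbd ht).1 h2).resolve_left fun e => ?_⟩
    · subst e; rw [polar_comm, hCD] at h2; exact one_ne_zero h2
    · subst e; rw [hCD] at h1; exact one_ne_zero h1
  have adjP : ∀ s t, Γ.Adj b s → Γ.Adj b t → φ b s ≠ φ b t →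
      q.polarBilin (φ b s) (φ b t) = 0 → Γ.Adj s t := fun s t hs ht hne h =>
    ((L.perp_iff hs ht).1 h).resolve_left fun e => hne (congrArg (φ b) e)
  have eUX : q.polarBilin U X = 0 := by rw [polar_comm]; exact eXU
  have eYX : q.polarBilin Y X = 0 := by rw [polar_comm]; exact eXY
  have eYU : q.polarBilin Y U = 0 := by rw [polar_comm]; exact eUY
  have H : Quad Γ b d c x u v w :=
    { bd := hbd, bx := hx, bu := hu, bv := hv, bw := hw, bc := hbc
      dx := (adjW x hx (ex ▸ hXW)).2, du := (adjW u hu (eu ▸ hU.1)).2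
      dv := (adjW v hv (ev ▸ hY.1.1)).2, dw := (adjW w hw (ew ▸ hZW)).2
      cx := (adjW x hx (ex ▸ hXW)).1, cu := (adjW u hu (eu ▸ hU.1)).1
      cv := (adjW v hv (ev ▸ hY.1.1)).1, cw := (adjW w hw (ew ▸ hZW)).1
      xu := adjP x u hx hu (by rw [ex, eu]; exact nUX.symm) (by rw [ex, eu]; exact eXU)
      xv := adjP x v hx hv (by rw [ex, ev]; exact nYX.symm) (by rw [ex, ev]; exact eXY)
      xw := adjP x w hx hw (by rw [ex, ew]; exact nZX.symm)
        (by rw [ex, ew, hZ, map_add, map_add, polar_self, eXU, eXY, add_zero, add_zero])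
      uv := adjP u v hu hv (by rw [eu, ev]; exact nYU.symm) (by rw [eu, ev]; exact eUY)
      uw := adjP u w hu hw (by rw [eu, ew]; exact nZU.symm)
        (by rw [eu, ew, hZ, map_add, map_add, polar_self, eUX, eUY, add_zero, add_zero])
      vw := adjP v w hv hw (by rw [ev, ew]; exact nZY.symm)
        (by rw [ev, ew, hZ, map_add, map_add, polar_self, eYX, eYU, add_zero, add_zero])
      ncd := hn, hcd := hcd }
  exact H.false_of_sum L hnd (by rw [ex, eu, ev, ew]; exact hXeq)

/-- A connected, locally orthogonal graph of dimension at least eight is complete; so it has no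
further pair. -/
theorem LocalOrth.adj_of_reachable (L : LocalOrth Γ q φ) (hnd : q.polarBilin.Nondegenerate)
    (hdim : 8 ≤ Module.finrank (ZMod 2) V) {c d : α} (h : Γ.Reachable c d) (hcd : c ≠ d) :
    Γ.Adj c d := by
  obtain ⟨p⟩ := h
  induction p with
  | nil => exact absurd rfl hcd
  | @cons a b e hab p ih =>
    by_cases hbe : b = e
    · exact hbe ▸ hab
    · exact L.adj_of_common hnd hdim hab.symm (ih hbe) hcd

end CfsgLib.ThreeTrans.Exclude
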