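import Mathlib

/-!
# Non-singular vectors of a quadratic space over two elements

Facts used to exclude orthogonal groups as sections of three-transposition groups.
-/

set_option autoImplicit false

namespace CfsgLib.ThreeTrans.Exclude

open LinearMap (BilinForm)

variable {V : Type*} [AddCommGroup V] [Module (ZMod 2) V] {q : QuadraticForm (ZMod 2) V}

theorem zmod_two_cases (a : ZMod 2) : a = 0 ∨ a = 1 := by revert a; decide

theorem polar_self (x : V) : q.polarBilin x x = 0 := by
  have h : q.polarBilin x x = 2 • q x := by simp [QuadraticMap.polar_self]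
  rw [h, nsmul_eq_mul, Nat.cast_ofNat, show (2 : ZMod 2) = 0 from by decide, zero_mul]

theorem polar_comm (x y : V) : q.polarBilin x y = q.polarBilin y x := by
  simp [QuadraticMap.polar_comm]

theorem map_add_of_perp {x y : V} (h : q.polarBilin x y = 0) : q (x + y) = q x + q y := by
  have h' : QuadraticMap.polar q x y = 0 := by simpa using h
  rw [QuadraticMap.map_add (⇑q), h', add_zero]

theorem isRefl : BilinForm.IsRefl q.polarBilin := fun x y h => by rwa [polar_comm]

/-- A subspace with a non-singular vector orthogonal to all of it is spanned by its non-singular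
vectors. -/
theorem le_span_ns {U : Submodule (ZMod 2) V} {r : V} (hr : r ∈ U) (hq : q r = 1)
    (hperp : ∀ u ∈ U, q.polarBilin r u = 0) :
    U ≤ Submodule.span (ZMod 2) {u | u ∈ U ∧ q u = 1} := by
  intro u hu
  have hrs : r ∈ Submodule.span (ZMod 2) {u | u ∈ U ∧ q u = 1} := Submodule.subset_span ⟨hr, hq⟩
  rcases zmod_two_cases (q u) with h | h
  · have h1 : r + u ∈ {u | u ∈ U ∧ q u = 1} :=
      ⟨U.add_mem hr hu, by rw [map_add_of_perp (hperp u hu), hq, h, add_zero]⟩
    simpa using Submodule.sub_mem _ (Submodule.subset_span h1) hrs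
  · exact Submodule.subset_span ⟨hu, h⟩

variable [FiniteDimensional (ZMod 2) V]

/-- What is orthogonal to all non-singular vectors orthogonal to pairwise orthogonal non-singular
vectors lies in their span. -/
theorem mem_span_of_dual (hnd : q.polarBilin.Nondegenerate) {S : Set V} {r : V} (hr : r ∈ S)
    (hq : q r = 1) (hS : ∀ s ∈ S, ∀ s' ∈ S, q.polarBilin s s' = 0) {y : V}
    (hy : ∀ w : V, q w = 1 → (∀ s ∈ S, q.polarBilin w s = 0) → q.polarBilin w y = 0) :
    y ∈ Submodule.span (ZMod 2) S := by
  set U : Submodule (ZMod 2) V := BilinForm.orthogonal q.polarBilin (Submodule.span (ZMod 2) S)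
    with hU
  rw [← BilinForm.orthogonal_orthogonal hnd isRefl (Submodule.span (ZMod 2) S), ← hU,
    BilinForm.mem_orthogonal_iff]
  have hrU : r ∈ U := by
    rw [hU, BilinForm.mem_orthogonal_iff]
    intro m hm
    exact (Submodule.span_le (p := LinearMap.ker (q.polarBilin.flip r))).2
      (fun s hs => hS s hs r hr) hm
  have hperp : ∀ u ∈ U, q.polarBilin r u = 0 := fun u hu => by
    rw [hU, BilinForm.mem_orthogonal_iff] at hu
    exact hu r (Submodule.subset_span hr)
  intro u hu
  refine (Submodule.span_le (p := LinearMap.ker (q.polarBilin.flip y))).2 ?_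
    (le_span_ns hrU hq hperp hu)
  rintro w ⟨hw, hqw⟩
  refine hy w hqw fun s hs => ?_
  rw [polar_comm]
  rw [hU, BilinForm.mem_orthogonal_iff] at hw
  exact hw s (Submodule.subset_span hs)

omit [FiniteDimensional (ZMod 2) V] in
/-- Odd sums of four pairwise orthogonal non-singular vectors. -/
theorem mem_span_four {b u v w y : V} (hq : q b = 1 ∧ q u = 1 ∧ q v = 1 ∧ q w = 1)
    (hbu : q.polarBilin b u = 0) (hbv : q.polarBilin b v = 0) (hbw : q.polarBilin b w = 0)
    (huv : q.polarBilin u v = 0) (huw : q.polarBilin u w = 0) (hvw : q.polarBilin v w = 0)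
    (hy : q y = 1) (hmem : y ∈ Submodule.span (ZMod 2) ({b, u, v, w} : Set V)) :
    y = b ∨ y = u ∨ y = v ∨ y = w ∨ y = b + u + v ∨ y = b + u + w ∨ y = b + v + w ∨
      y = u + v + w := by
  obtain ⟨h1, h2, h3, h4⟩ := hq
  simp only [Submodule.mem_span_insert, Submodule.mem_span_singleton] at hmem
  obtain ⟨a, _, ⟨c, _, ⟨e, _, ⟨f, rfl⟩, rfl⟩, rfl⟩, rfl⟩ := hmem
  rcases zmod_two_cases a with rfl | rfl <;> rcases zmod_two_cases c with rfl | rfl <;>
    rcases zmod_two_cases e with rfl | rfl <;> rcases zmod_two_cases f with rfl | rfl <;>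
    simp only [zero_smul, one_smul, zero_add, add_zero, add_assoc] at hy ⊢ <;>
    first
    | (simp only [QuadraticMap.map_zero] at hy; exact absurd hy (by decide))
    | (simp; done)
    | (rw [map_add_of_perp, h1, h2] at hy; exact absurd hy (by decide); assumption)
    | (rw [map_add_of_perp, h1, h3] at hy; exact absurd hy (by decide); assumption)
    | (rw [map_add_of_perp, h1, h4] at hy; exact absurd hy (by decide); assumption)
    | (rw [map_add_of_perp, h2, h3] at hy; exact absurd hy (by decide); assumption)
    | (rw [map_add_of_perp, h2, h4] at hy; exact absurd hy (by decide); assumption)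
    | (rw [map_add_of_perp, h3, h4] at hy; exact absurd hy (by decide); assumption)
    | (rw [map_add_of_perp, map_add_of_perp, map_add_of_perp, h1, h2, h3, h4] at hy
       exact absurd hy (by decide)
       all_goals simp only [map_add, hbu, hbv, hbw, huv, huw, hvw, add_zero])

end CfsgLib.ThreeTrans.Exclude
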